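import Mathlib
import Cfsg.Agent.Lyons.Chk

/-! The search for the principal 2-block in Lyons' theorem. -/

set_option autoImplicit false

namespace Cfsg.Agent.Lyons

def tl : List Ent := [
  ([196, 4, 4, 16, 16, 16, 16, 4, 48, 4], [([-4, -4, -8, -196, -392], 103, 0), ([4, 4, 8, 196, 392], 89, 0)]),
  ([36, 4, 4, 20, 4, 4, 36, 0, 44, 4], [([-4, -4, -4, -36, -108], 115, 0), ([4, 4, 4, 36, 108], 77, 0)]),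
  ([36, 4, 0, 16, 16, 16, 16, 4, 48, 4], [([-4, 0, -8, -36, 72], 115, 0), ([4, 0, 8, 36, -72], 77, 0)]),
  ([256, 0, 4, 20, 4, 4, 36, 4, 44, 16], [([0, -4, -4, 0, -768], 104, 0), ([0, 4, 4, 0, 768], 88, 0)]),
  ([196, 4, 4, 8, 8, 16, 16, 4, 16, 4], [([-4, -4, -8, -196, -392], 103, 0), ([4, 4, 8, 196, 392], 89, 0)]),
  ([4, 4, 0, 20, 4, 4, 4, 0, 44, 4], [([4, 0, 4, 4, -4], 65, 0), ([-4, 0, -4, -4, 4], 127, 0)]),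
  ([4, 4, 4, 0, 16, 0, 64, 4, 32, 4], [([4, 4, 0, 4, 16], 65, 0), ([-4, -4, 0, -4, -16], 127, 0)]),
  ([4, 4, 4, 8, 8, 0, 64, 4, 32, 4], [([4, 4, 0, 4, 16], 65, 0), ([-4, -4, 0, -4, -16], 127, 0)]),
  ([64, 0, 4, 0, 16, 0, 64, 0, 32, 16], [([0, -4, 0, 0, -256], 116, 0), ([0, 4, 0, 0, 256], 76, 0)]),
  ([64, 0, 4, 8, 8, 0, 64, 0, 32, 16], [([0, -4, 0, 0, -256], 116, 0), ([0, 4, 0, 0, 256], 76, 0)]),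
  ([64, 0, 0, 20, 4, 4, 4, 4, 44, 0], [([0, 0, -4, 0, 64], 116, 0), ([0, 0, 4, 0, -64], 76, 0)]),
  ([72, 8, 2, 16, 0, 0, 32, 8, 32, 0], [([4, 2, 0, 144, 288], 118, 0), ([-4, -2, 0, -144, -288], 202, 0)]),
  ([162, 2, 2, 16, 0, 0, 32, 2, 32, 18], [([2, -2, 0, 162, -648], 105, 0), ([-2, 2, 0, -162, 648], 151, 0)]),
  ([2, 2, 2, 16, 0, 0, 32, 2, 32, 2], [([2, 2, 0, 2, 8], 65, 0), ([-2, -2, 0, -2, -8], 127, 0)]),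
  ([32, 0, 2, 16, 0, 0, 32, 0, 32, 8], [([0, -2, 0, 0, -128], 116, 0), ([0, 2, 0, 0, 128], 76, 0)]),
  ([81, 9, 4, 8, 0, 16, 16, 1, 0, 1], [([-3, -2, -4, -243, -324], 217, 0), ([3, 2, 4, 243, 324], 103, 0)]),
  ([200, 8, 0, 16, 0, 0, 0, 8, 32, 8], [([4, 0, 0, 400, 0], 106, 0), ([-4, 0, 0, -400, 0], 214, 0)]),
  ([196, 4, 4, 8, 0, 16, 16, 4, 0, 4], [([-2, -2, -4, -392, -784], 142, 0), ([2, 2, 4, 392, 784], 114, 0)]),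
  ([36, 4, 4, 4, 4, 4, 36, 0, 12, 4], [([-4, -4, -4, -36, -108], 115, 0), ([4, 4, 4, 36, 108], 77, 0)]),
  ([36, 4, 0, 8, 8, 16, 16, 4, 16, 4], [([-4, 0, -8, -36, 72], 115, 0), ([4, 0, 8, 36, -72], 77, 0)]),
  ([100, 4, 0, 0, 16, 0, 0, 4, 32, 4], [([4, 0, 0, 100, 0], 117, 0), ([-4, 0, 0, -100, 0], 139, 0)]),
  ([100, 4, 0, 8, 8, 0, 0, 4, 32, 4], [([4, 0, 0, 100, 0], 117, 0), ([-4, 0, 0, -100, 0], 139, 0)]),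
  ([50, 2, 0, 16, 0, 0, 0, 2, 32, 2], [([2, 0, 0, 50, 0], 117, 0), ([-2, 0, 0, -50, 0], 139, 0)]),
  ([256, 0, 4, 4, 4, 4, 36, 4, 12, 16], [([0, -4, -4, 0, -768], 104, 0), ([0, 4, 4, 0, 768], 88, 0)]),
  ([8, 8, 2, 8, 0, 8, 8, 0, 8, 0], [([-4, -2, -4, -16, -16], 178, 0), ([4, 2, 4, 16, 16], 78, 0)]),
  ([98, 2, 2, 8, 0, 8, 8, 2, 8, 2], [([-2, -2, -4, -98, -196], 103, 0), ([2, 2, 4, 98, 196], 89, 0)]),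
  ([288, 0, 2, 8, 0, 8, 8, 8, 8, 8], [([0, -2, -4, 0, -576], 92, 0), ([0, 2, 4, 0, 576], 100, 0)]),
  ([25, 9, 1, 8, 0, 16, 0, 1, 0, 1], [([-3, -1, -4, -75, 0], 229, 0), ([3, 1, 4, 75, 0], 91, 0)]),
  ([100, 4, 1, 8, 0, 16, 0, 4, 0, 0], [([-2, -1, -4, -200, 0], 154, 0), ([2, 1, 4, 200, 0], 102, 0)]),
  ([4, 4, 1, 8, 0, 16, 64, 4, 0, 16], [([-2, 1, -4, -8, 32], 178, 0), ([2, -1, 4, 8, -32], 78, 0)]),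
  ([225, 1, 1, 8, 0, 16, 0, 9, 0, 1], [([-1, -1, -4, -225, 0], 79, 0), ([1, 1, 4, 225, 0], 113, 0)]),
  ([49, 1, 1, 8, 0, 16, 64, 9, 0, 9], [([-1, 1, -4, -49, 392], 103, 0), ([1, -1, 4, 49, -392], 89, 0)]),
  ([1, 9, 0, 8, 0, 16, 16, 1, 0, 9], [([-3, 0, -4, -3, 4], 241, 0), ([3, 0, 4, 3, -4], 79, 0)]),
  ([49, 9, 4, 0, 0, 0, 64, 9, 0, 1], [([3, 2, 0, 147, 392], 119, 0), ([-3, -2, 0, -147, -392], 265, 0)]),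
  ([8, 8, 0, 8, 0, 8, 8, 0, 8, 8], [([4, 0, 4, 16, -16], 66, 0), ([-4, 0, -4, -16, 16], 190, 0)]),
  ([36, 4, 0, 8, 0, 16, 16, 4, 0, 4], [([-2, 0, -4, -72, 144], 166, 0), ([2, 0, 4, 72, -144], 90, 0)]),
  ([4, 4, 4, 0, 0, 0, 64, 4, 0, 4], [([2, 2, 0, 8, 32], 66, 0), ([-2, -2, 0, -8, -32], 190, 0)]),
  ([4, 4, 0, 4, 4, 4, 4, 0, 12, 4], [([4, 0, 4, 4, -4], 65, 0), ([-4, 0, -4, -4, 4], 127, 0)]),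
  ([18, 2, 0, 8, 0, 8, 8, 2, 8, 2], [([-2, 0, -4, -18, 36], 115, 0), ([2, 0, 4, 18, -36], 77, 0)]),
  ([9, 1, 4, 0, 0, 0, 64, 1, 0, 9], [([-1, -2, 0, -9, -72], 115, 0), ([1, 2, 0, 9, 72], 77, 0)]),
  ([121, 1, 0, 8, 0, 16, 16, 9, 0, 1], [([-1, 0, -4, -121, 484], 91, 0), ([1, 0, 4, 121, -484], 101, 0)]),
  ([64, 0, 4, 0, 0, 0, 64, 0, 0, 16], [([0, -2, 0, 0, -512], 104, 0), ([0, 2, 0, 0, 512], 88, 0)]),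
  ([128, 0, 0, 8, 0, 8, 8, 8, 8, 0], [([0, 0, -4, 0, 256], 104, 0), ([0, 0, 4, 0, -256], 88, 0)]),
  ([64, 0, 0, 4, 4, 4, 4, 4, 12, 0], [([0, 0, -4, 0, 64], 116, 0), ([0, 0, 4, 0, -64], 76, 0)]),
  ([121, 9, 1, 0, 0, 0, 16, 9, 0, 1], [([3, 1, 0, 363, 484], 107, 0), ([-3, -1, 0, -363, -484], 277, 0)]),
  ([196, 4, 1, 0, 0, 0, 16, 4, 0, 16], [([2, -1, 0, 392, -784], 94, 0), ([-2, 1, 0, -392, 784], 226, 0)]),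
  ([36, 4, 1, 0, 0, 0, 16, 4, 0, 0], [([2, 1, 0, 72, 144], 118, 0), ([-2, -1, 0, -72, -144], 202, 0)]),
  ([81, 1, 1, 0, 0, 0, 16, 1, 0, 9], [([1, -1, 0, 81, -324], 105, 0), ([-1, 1, 0, -81, 324], 151, 0)]),
  ([1, 1, 1, 0, 0, 0, 16, 1, 0, 1], [([1, 1, 0, 1, 4], 65, 0), ([-1, -1, 0, -1, -4], 127, 0)]),
  ([16, 0, 1, 0, 0, 0, 16, 0, 0, 4], [([0, -1, 0, 0, -64], 116, 0), ([0, 1, 0, 0, 64], 76, 0)]),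
  ([225, 9, 0, 0, 0, 0, 0, 9, 0, 9], [([3, 0, 0, 675, 0], 95, 0), ([-3, 0, 0, -675, 0], 289, 0)]),
  ([100, 4, 0, 0, 0, 0, 0, 4, 0, 4], [([2, 0, 0, 200, 0], 106, 0), ([-2, 0, 0, -200, 0], 214, 0)]),
  ([25, 1, 0, 0, 0, 0, 0, 1, 0, 1], [([1, 0, 0, 25, 0], 117, 0), ([-1, 0, 0, -25, 0], 139, 0)])]
set_option maxRecDepth 100000 in
theorem run : chk 40 tl [319, 15, 4, 24, 16, 32, 64, 15, 48, 19] [] = true := by decide +kernel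

end Cfsg.Agent.Lyons
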