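import Mathlib
import Cfsg.Agent.Lyons.Run

/-! The arithmetic contradiction in Lyons' theorem. -/

set_option autoImplicit false

namespace Cfsg.Agent.Lyons

open Finset

def code (a b c d : ℤ) : ℤ := ((a * 5 + b) * 5 + c) * 5 + d

/-- The size of the orbit at the chosen representative, zero elsewhere. -/
def wt (a b c d : ℤ) : ℤ :=
  if code b d a c ≤ code a b c d ∧ code d c b a ≤ code a b c d ∧ code c a d b ≤ code a b c d then
    (if code b d a c = code a b c d then 1 else if code d c b a = code a b c d then 2 else 4) else 0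

def r5 : List ℤ := [-2, -1, 0, 1, 2]

theorem wt_sum' : (r5.all fun a => r5.all fun b => r5.all fun c => r5.all fun d =>
    decide (wt a b c d + wt b d a c + wt d c b a + wt c a d b = 4)) = true := by decide +kernel

theorem mem_r5 {a : ℤ} (h : a ^ 2 ≤ 5) : a ∈ r5 := by
  have h1 : a ≤ 2 := by nlinarith
  have h2 : -2 ≤ a := by nlinarith
  interval_cases a <;> decide

theorem wt_sum {a b c d : ℤ} (ha : a ∈ r5) (hb : b ∈ r5) (hc : c ∈ r5) (hd : d ∈ r5) :
    wt a b c d + wt b d a c + wt d c b a + wt c a d b = 4 := by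
  have := wt_sum'
  simp only [List.all_eq_true, decide_eq_true_eq] at this
  exact this a ha b hb c hc d hd

theorem wt_nonneg (a b c d : ℤ) : 0 ≤ wt a b c d := by unfold wt; split_ifs <;> omega

def alp (e z a b c d : ℤ) : ℤ := 5 * e - 4 * (z + (a + b + c + d))

/-- The ten positive forms. -/
def fz (e z a b c d : ℤ) : List ℤ :=
  [alp e z a b c d ^ 2, e ^ 2, z ^ 2, (a + d) ^ 2 + (b + c) ^ 2, (a - d) ^ 2 + (b - c) ^ 2, (a + b + c + d) ^ 2,
    (4 * z - (a + b + c + d)) ^ 2, (e - (a + b + c + d)) ^ 2,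
    (a - b) ^ 2 + (a - c) ^ 2 + (a - d) ^ 2 + (b - c) ^ 2 + (b - d) ^ 2 + (c - d) ^ 2, (e - 2 * z) ^ 2]

def fv (e z a b c d : ℤ) : List ℕ := (fz e z a b c d).map fun t => (wt a b c d * t).toNat

def cf (e z a b c d : ℤ) : List ℤ :=
  [wt a b c d * e, wt a b c d * z, wt a b c d * (a + b + c + d), wt a b c d * (e * alp e z a b c d ^ 2),
    wt a b c d * ((4 * z - (a + b + c + d)) * alp e z a b c d ^ 2)]

def base (e al : ℤ) : ℕ :=
  (if 0 ≤ 3 * al + 60 * e then 64 + (-(3 * al + 60 * e)) % 64 else 64 - (3 * al + 60 * e)).toNat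

def tgt : List ℕ := [319, 15, 4, 24, 16, 32, 64, 15, 48, 19]

def rowOK (e z a b c d : ℤ) : Bool :=
  wt a b c d == 0 || alp e z a b c d == 0 || !vle (fv e z a b c d) tgt ||
    tl.any fun p => p.1 == fv e z a b c d && p.2.any fun q => q == (cf e z a b c d, base e (alp e z a b c d), 0)

theorem rows : (r5.all fun a => r5.all fun b => r5.all fun c => r5.all fun d => wt a b c d == 0 ||
    r5.all fun z => ([-3, -2, -1, 0, 1, 2, 3] : List ℤ).all fun e => rowOK e z a b c d) = true := by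
  decide +kernel

theorem row_sem {e z a b c d x k : ℤ} (he : e ^ 2 ≤ 15) (hz : z ∈ r5) (ha : a ∈ r5) (hb : b ∈ r5) (hc : c ∈ r5)
    (hd : d ∈ r5) (hw : wt a b c d ≠ 0) (hal : alp e z a b c d ≠ 0)
    (hle : ∀ j, (fv e z a b c d).getD j 0 ≤ tgt.getD j 0) (hx : 64 ≤ x) (hk : 1 ≤ k)
    (hxk : x + 3 * alp e z a b c d + 60 * e = 64 * k) :
    ∃ p ∈ tl, SemE p (fv e z a b c d, cf e z a b c d, x.toNat) := by
  have := rows
  simp only [List.all_eq_true, Bool.or_eq_true, beq_iff_eq] at this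
  have he' : e ∈ ([-3, -2, -1, 0, 1, 2, 3] : List ℤ) := by
    have h1 : e ≤ 3 := by nlinarith
    have h2 : -3 ≤ e := by nlinarith
    interval_cases e <;> decide
  have h := ((this a ha b hb c hc d hd).resolve_left hw) z hz e he'
  simp only [rowOK, Bool.or_eq_true, beq_iff_eq, hw, hal, vle_of hle, Bool.not_true, false_or,
    Bool.false_eq_true, List.any_eq_true, Bool.and_eq_true] at h
  obtain ⟨p, hp, h1, q, hq, rfl⟩ := h
  refine ⟨p, hp, h1.symm, _, hq, rfl, ?_, ?_, Or.inl rfl⟩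
  · simp only [base]; split_ifs <;> omega
  · simp only [base]
    split_ifs
    · exact ⟨((x - 64) / 64).toNat, by omega⟩
    · exact ⟨(k - 1).toNat, by omega⟩

theorem num {I : Type*} (s : Finset I) (e x z a b c d : I → ℤ) (σ : I → I)
    (hσ : ∀ F : I → ℚ, ∑ i ∈ s, F (σ i) = ∑ i ∈ s, F i)
    (he : ∀ i ∈ s, e (σ i) = e i) (hx : ∀ i ∈ s, x (σ i) = x i) (hz : ∀ i ∈ s, z (σ i) = z i)
    (ha : ∀ i ∈ s, a (σ i) = b i) (hb : ∀ i ∈ s, b (σ i) = d i) (hc : ∀ i ∈ s, c (σ i) = a i)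
    (hd : ∀ i ∈ s, d (σ i) = c i) (hs : ∀ i ∈ s, σ i ∈ s)
    (gee : ∑ i ∈ s, e i * e i = 15) (gez : ∑ i ∈ s, e i * z i = 3) (gea : ∑ i ∈ s, e i * a i = 4)
    (geb : ∑ i ∈ s, e i * b i = 4) (gec : ∑ i ∈ s, e i * c i = 4) (ged : ∑ i ∈ s, e i * d i = 4)
    (gzz : ∑ i ∈ s, z i * z i = 4) (gza : ∑ i ∈ s, z i * a i = 1) (gzb : ∑ i ∈ s, z i * b i = 1)
    (gzc : ∑ i ∈ s, z i * c i = 1) (gzd : ∑ i ∈ s, z i * d i = 1)
    (gaa : ∑ i ∈ s, a i * a i = 5) (gbb : ∑ i ∈ s, b i * b i = 5) (gcc : ∑ i ∈ s, c i * c i = 5)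
    (gdd : ∑ i ∈ s, d i * d i = 5) (gab : ∑ i ∈ s, a i * b i = 1) (gac : ∑ i ∈ s, a i * c i = 1)
    (gad : ∑ i ∈ s, a i * d i = 1) (gbc : ∑ i ∈ s, b i * c i = 1) (gbd : ∑ i ∈ s, b i * d i = 1)
    (gcd : ∑ i ∈ s, c i * d i = 1)
    (hal : ∀ i ∈ s, alp (e i) (z i) (a i) (b i) (c i) (d i) ≠ 0) (hx1 : ∀ i ∈ s, 64 ≤ x i)
    (hx2 : ∀ i ∈ s, ∃ k : ℤ, 1 ≤ k ∧ x i + 3 * alp (e i) (z i) (a i) (b i) (c i) (d i) + 60 * e i = 64 * k)
    (l1 : 1 + ∑ i ∈ s, e i * x i = 0) (l2 : 1 + ∑ i ∈ s, z i * x i = 0)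
    (l3 : ∑ i ∈ s, (a i + b i + c i + d i) * x i = 0)
    (q1 : 1 + ∑ i ∈ s, ((e i * alp (e i) (z i) (a i) (b i) (c i) (d i) ^ 2 : ℤ) : ℚ) / x i = 0)
    (q2 : 4 + ∑ i ∈ s, (((4 * z i - (a i + b i + c i + d i)) * alp (e i) (z i) (a i) (b i) (c i) (d i) ^ 2 : ℤ) : ℚ) /
      x i = 0) : False := by
  classical
  have bd : ∀ {f : I → ℤ} {n : ℤ}, ∑ i ∈ s, f i * f i = n → ∀ i ∈ s, f i ^ 2 ≤ n := fun {f n} h i hi => by
    rw [← h, pow_two]
    exact single_le_sum (f := fun i => f i * f i) (fun _ _ => mul_self_nonneg _) hi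
  have ma := fun i hi => mem_r5 (bd gaa i hi)
  have mb := fun i hi => mem_r5 (bd gbb i hi)
  have mc := fun i hi => mem_r5 (bd gcc i hi)
  have md := fun i hi => mem_r5 (bd gdd i hi)
  have mz := fun i hi => mem_r5 ((bd gzz i hi).trans (by norm_num : (4 : ℤ) ≤ 5))
  set w : I → ℤ := fun i => wt (a i) (b i) (c i) (d i) with hw
  set t := s.filter fun i => w i ≠ 0 with ht
  have key : ∀ F : I → ℚ, (∀ i ∈ s, F (σ i) = F i) → ∑ i ∈ t, w i * F i = ∑ i ∈ s, F i := by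
    intro F hF
    have e0 : ∑ i ∈ t, w i * F i = ∑ i ∈ s, w i * F i :=
      sum_filter_of_ne fun i _ h h' => h (by rw [h']; simp)
    have e1 := hσ fun i => w i * F i
    have e2 := (hσ fun i => w (σ i) * F (σ i)).trans e1
    have e3 := (hσ fun i => w (σ (σ i)) * F (σ (σ i))).trans e2
    have e4 : ∑ i ∈ s, (w i * F i + w (σ i) * F (σ i) + w (σ (σ i)) * F (σ (σ i)) +
        w (σ (σ (σ i))) * F (σ (σ (σ i)))) = ∑ i ∈ s, 4 * F i := by
      refine sum_congr rfl fun i hi => ?_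
      have h1 := hs i hi
      have h2 := hs _ h1
      have := wt_sum (ma i hi) (mb i hi) (mc i hi) (md i hi)
      simp only [hw, hF _ h2, hF _ h1, hF _ hi, ha _ h2, hb _ h2, hc _ h2, hd _ h2, ha _ h1, hb _ h1, hc _ h1,
        hd _ h1, ha _ hi, hb _ hi, hc _ hi, hd _ hi]
      have h3 : ((wt (a i) (b i) (c i) (d i) + wt (b i) (d i) (a i) (c i) + wt (d i) (c i) (b i) (a i) +
        wt (c i) (a i) (d i) (b i) : ℤ) : ℚ) = 4 := by exact_mod_cast this
      push_cast at h3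
      linear_combination F i * h3
    simp only [sum_add_distrib, ← mul_sum] at e4
    rw [e0]
    linarith
  have keyZ : ∀ F : I → ℤ, (∀ i ∈ s, F (σ i) = F i) → ∑ i ∈ t, w i * F i = ∑ i ∈ s, F i := by
    intro F hF
    have := key (fun i => F i) fun i hi => by rw [hF i hi]
    exact_mod_cast this
  have hal' : ∀ i ∈ s, alp (e (σ i)) (z (σ i)) (a (σ i)) (b (σ i)) (c (σ i)) (d (σ i)) =
      alp (e i) (z i) (a i) (b i) (c i) (d i) := fun i hi => by
    simp only [alp, he i hi, hz i hi, ha i hi, hb i hi, hc i hi, hd i hi]; ring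
  have hsum : ∀ k, ∑ i ∈ t, (fv (e i) (z i) (a i) (b i) (c i) (d i)).getD k 0 = tgt.getD k 0 := by
    intro k
    have h0 : ∀ i, (((fv (e i) (z i) (a i) (b i) (c i) (d i)).getD k 0 : ℕ) : ℤ) =
        w i * (fz (e i) (z i) (a i) (b i) (c i) (d i)).getD k 0 := by
      intro i
      have hw0 := wt_nonneg (a i) (b i) (c i) (d i)
      rcases k with _ | _ | _ | _ | _ | _ | _ | _ | _ | _ | k <;>
        simp only [fv, fz, List.map, List.getD_cons_zero, List.getD_cons_succ, List.getD_nil, hw] <;>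
        first | exact Int.toNat_of_nonneg (by positivity) | simp
    have h1 : ∑ i ∈ s, (fz (e i) (z i) (a i) (b i) (c i) (d i)).getD k 0 = (tgt.getD k 0 : ℕ) := by
      have hl : ∀ F : I → ℤ, ∀ c1 c2 c3 c4 c5 c6 c7 c8 c9 c10 c11 c12 c13 c14 c15 c16 c17 c18 c19 c20 c21 : ℤ,
          (∀ i, F i = c1 * (e i * e i) + c2 * (e i * z i) + c3 * (e i * a i) + c4 * (e i * b i) + c5 * (e i * c i) +
            c6 * (e i * d i) + c7 * (z i * z i) + c8 * (z i * a i) + c9 * (z i * b i) + c10 * (z i * c i) +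
            c11 * (z i * d i) + c12 * (a i * a i) + c13 * (b i * b i) + c14 * (c i * c i) + c15 * (d i * d i) +
            c16 * (a i * b i) + c17 * (a i * c i) + c18 * (a i * d i) + c19 * (b i * c i) + c20 * (b i * d i) +
            c21 * (c i * d i)) → ∑ i ∈ s, F i = c1 * 15 + c2 * 3 + (c3 + c4 + c5 + c6 + c7) * 4 + c8 + c9 + c10 +
            c11 + (c12 + c13 + c14 + c15) * 5 + c16 + c17 + c18 + c19 + c20 + c21 := by
        intro F c1 c2 c3 c4 c5 c6 c7 c8 c9 c10 c11 c12 c13 c14 c15 c16 c17 c18 c19 c20 c21 h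
        simp only [h, sum_add_distrib, ← mul_sum, gee, gez, gea, geb, gec, ged, gzz, gza, gzb, gzc, gzd, gaa,
          gbb, gcc, gdd, gab, gac, gad, gbc, gbd, gcd]
        ring
      rcases k with _ | _ | _ | _ | _ | _ | _ | _ | _ | _ | k <;>
        simp only [fz, tgt, List.getD_cons_zero, List.getD_cons_succ, List.getD_nil]
      · rw [hl _ 25 (-40) (-40) (-40) (-40) (-40) 16 32 32 32 32 16 16 16 16 32 32 32 32 32 32
          fun i => by simp only [alp]; ring]; rfl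
      · rw [hl _ 1 0 0 0 0 0 0 0 0 0 0 0 0 0 0 0 0 0 0 0 0 fun i => by ring]; rfl
      · rw [hl _ 0 0 0 0 0 0 1 0 0 0 0 0 0 0 0 0 0 0 0 0 0 fun i => by ring]; rfl
      · rw [hl _ 0 0 0 0 0 0 0 0 0 0 0 1 1 1 1 0 0 2 2 0 0 fun i => by ring]; rfl
      · rw [hl _ 0 0 0 0 0 0 0 0 0 0 0 1 1 1 1 0 0 (-2) (-2) 0 0 fun i => by ring]; rfl
      · rw [hl _ 0 0 0 0 0 0 0 0 0 0 0 1 1 1 1 2 2 2 2 2 2 fun i => by ring]; rfl
      · rw [hl _ 0 0 0 0 0 0 16 (-8) (-8) (-8) (-8) 1 1 1 1 2 2 2 2 2 2 fun i => by ring]; rfl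
      · rw [hl _ 1 0 (-2) (-2) (-2) (-2) 0 0 0 0 0 1 1 1 1 2 2 2 2 2 2 fun i => by ring]; rfl
      · rw [hl _ 0 0 0 0 0 0 0 0 0 0 0 3 3 3 3 (-2) (-2) (-2) (-2) (-2) (-2) fun i => by ring]; rfl
      · rw [hl _ 1 (-4) 0 0 0 0 4 0 0 0 0 0 0 0 0 0 0 0 0 0 0 fun i => by ring]; rfl
      · simp
    have h2 := keyZ (fun i => (fz (e i) (z i) (a i) (b i) (c i) (d i)).getD k 0) fun i hi => by
      rcases k with _ | _ | _ | _ | _ | _ | _ | _ | _ | _ | k <;>
        simp only [fz, List.getD_cons_zero, List.getD_cons_succ, List.getD_nil, alp, he i hi, hz i hi,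
          ha i hi, hb i hi, hc i hi, hd i hi] <;> ring
    have h3 : ((∑ i ∈ t, (fv (e i) (z i) (a i) (b i) (c i) (d i)).getD k 0 : ℕ) : ℤ) = (tgt.getD k 0 : ℕ) := by
      push_cast
      simp only [h0]
      rw [h2, h1]
    exact_mod_cast h3
  have hts : ∀ i ∈ t, i ∈ s ∧ w i ≠ 0 := fun i hi => mem_filter.1 hi
  refine chk_sound run (t.toList.map fun i => (fv (e i) (z i) (a i) (b i) (c i) (d i),
    cf (e i) (z i) (a i) (b i) (c i) (d i), (x i).toNat)) [] ?_ ?_ .nil ?_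
  · intro y hy
    obtain ⟨i, hi, rfl⟩ := List.mem_map.1 hy
    have hi' := mem_toList.1 hi
    obtain ⟨h1, h2⟩ := hts i hi'
    obtain ⟨k, hk, hk'⟩ := hx2 i h1
    refine row_sem (bd gee i h1) (mz i h1) (ma i h1) (mb i h1) (mc i h1) (md i h1) h2 (hal i h1) (fun j => ?_)
      (hx1 i h1) hk hk'
    rw [← hsum j]
    exact single_le_sum (f := fun i => (fv (e i) (z i) (a i) (b i) (c i) (d i)).getD j 0)
      (fun _ _ => Nat.zero_le _) hi'
  · intro k
    rw [List.map_map, sum_map_toList]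
    exact hsum k
  · have hxx : ∀ i ∈ t, (((x i).toNat : ℕ) : ℚ) = x i := fun i hi => by
      have := hx1 i (hts i hi).1
      have h : (((x i).toNat : ℕ) : ℤ) = x i := Int.toNat_of_nonneg (by omega)
      exact_mod_cast h
    have lin : ∀ (j : ℕ) (F : I → ℤ), (∀ i, (cf (e i) (z i) (a i) (b i) (c i) (d i)).getD j 0 = w i * F i) →
        (∀ i ∈ s, F (σ i) = F i) → tot true (fun l => l.getD j 0) ([] ++ (t.toList.map fun i =>
          (fv (e i) (z i) (a i) (b i) (c i) (d i), cf (e i) (z i) (a i) (b i) (c i) (d i), (x i).toNat)).map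
          fun z => z.2) = ((∑ i ∈ s, F i * x i : ℤ) : ℚ) := by
      intro j F h1 h2
      simp only [tot, List.nil_append, List.map_map, sum_map_toList, Function.comp_apply, val, if_true, h1]
      push_cast
      rw [← key (fun i => (F i : ℚ) * x i) fun i hi => by rw [h2 i hi, hx i hi]]
      exact sum_congr rfl fun i hi => by rw [hxx i hi]; ring
    have quad : ∀ (j : ℕ) (F : I → ℤ), (∀ i, (cf (e i) (z i) (a i) (b i) (c i) (d i)).getD j 0 = w i * F i) →
        (∀ i ∈ s, F (σ i) = F i) → tot false (fun l => l.getD j 0) ([] ++ (t.toList.map fun i =>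
          (fv (e i) (z i) (a i) (b i) (c i) (d i), cf (e i) (z i) (a i) (b i) (c i) (d i), (x i).toNat)).map
          fun z => z.2) = 1000000 * ∑ i ∈ s, (F i : ℚ) / x i := by
      intro j F h1 h2
      simp only [tot, List.nil_append, List.map_map, sum_map_toList, Function.comp_apply, val, Bool.false_eq_true,
        if_false, h1]
      push_cast
      rw [← key (fun i => (F i : ℚ) / x i) fun i hi => by rw [h2 i hi, hx i hi], mul_sum]
      exact sum_congr rfl fun i hi => by rw [hxx i hi]; ring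
    refine ⟨?_, ?_, ?_, ?_, ?_⟩
    · rw [lin 0 e (fun i => rfl) he]; exact_mod_cast l1
    · rw [lin 1 z (fun i => rfl) hz]; exact_mod_cast l2
    · rw [lin 2 (fun i => a i + b i + c i + d i) (fun i => rfl) fun i hi => by
        simp only [ha i hi, hb i hi, hc i hi, hd i hi]; ring]
      exact_mod_cast l3
    · rw [quad 3 (fun i => e i * alp (e i) (z i) (a i) (b i) (c i) (d i) ^ 2) (fun i => rfl) fun i hi => by
        rw [hal' i hi, he i hi]]
      linarith
    · rw [quad 4 (fun i => (4 * z i - (a i + b i + c i + d i)) * alp (e i) (z i) (a i) (b i) (c i) (d i) ^ 2)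
        (fun i => rfl) fun i hi => by
        rw [hal' i hi, hz i hi, ha i hi, hb i hi, hc i hi, hd i hi]; ring]
      linarith

end Cfsg.Agent.Lyons
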